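import Cfsg.Agent.H863.U33.Dat

/-!
# S5525, part F, L3: the order of `O = 3^(1+8):2^(1+6)` (helper264)
-/

set_option autoImplicit false

namespace Cfsg.Agent.H264.U33.O

open Cfsg.Agent.H863.U33

section

variable {G : Type*} [Group G]

/-- adjoining an element whose square is inside -/
theorem double {A : Set G} {s : G} (hs : s ∉ Subgroup.closure A) (hss : s * s ∈ Subgroup.closure A)
    (hn : ∀ a ∈ A, s⁻¹ * a * s ∈ Subgroup.closure A) :
    Nat.card (Subgroup.closure (A ∪ {s})) = 2 * Nat.card (Subgroup.closure A) := by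
  set H := Subgroup.closure A with hH
  have hn' : ∀ h ∈ H, s⁻¹ * h * s ∈ H := by
    intro h hh
    have h1 : H ≤ H.comap (MulAut.conj s⁻¹).toMonoidHom := by
      rw [hH]
      refine (Subgroup.closure_le _).2 fun a ha => ?_
      show MulAut.conj s⁻¹ a ∈ Subgroup.closure A
      rw [MulAut.conj_apply, inv_inv]
      exact hn a ha
    have h2 : MulAut.conj s⁻¹ h ∈ H := h1 hh
    rwa [MulAut.conj_apply, inv_inv] at h2
  let K : Subgroup G :=
    { carrier := {g | g ∈ H ∨ s⁻¹ * g ∈ H}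
      one_mem' := Or.inl H.one_mem
      mul_mem' := by
        rintro g g' (hg | hg) (hg' | hg')
        · exact Or.inl (H.mul_mem hg hg')
        · right
          have e : s⁻¹ * (g * g') = (s⁻¹ * g * s) * (s⁻¹ * g') := by group
          rw [e]
          exact H.mul_mem (hn' g hg) hg'
        · right
          rw [← mul_assoc]
          exact H.mul_mem hg hg'
        · left
          have e : g * g' = (s * s) * (s⁻¹ * (s⁻¹ * g) * s) * (s⁻¹ * g') := by group
          rw [e]
          exact H.mul_mem (H.mul_mem hss (hn' _ hg)) hg'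
      inv_mem' := by
        rintro g (hg | hg)
        · exact Or.inl (H.inv_mem hg)
        · right
          have e : s⁻¹ * g⁻¹ = (s⁻¹ * (s⁻¹ * g)⁻¹ * s) * (s * s)⁻¹ := by group
          rw [e]
          exact H.mul_mem (hn' _ (H.inv_mem hg)) (H.inv_mem hss) }
  have hK : ∀ g, g ∈ K ↔ g ∈ H ∨ s⁻¹ * g ∈ H := fun g => Iff.rfl
  have hHK : H ≤ K := fun g hg => Or.inl hg
  have hcl : Subgroup.closure (A ∪ {s}) = K := by
    apply le_antisymm
    · refine (Subgroup.closure_le _).2 ?_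
      rintro g (hg | hg)
      · exact Or.inl (Subgroup.subset_closure hg)
      · rw [Set.mem_singleton_iff.1 hg]
        right
        rw [inv_mul_cancel]
        exact H.one_mem
    · rintro g (hg | hg)
      · exact (Subgroup.closure_mono Set.subset_union_left) hg
      · have h1 : s⁻¹ * g ∈ Subgroup.closure (A ∪ {s}) := (Subgroup.closure_mono Set.subset_union_left) hg
        have h2 : s ∈ Subgroup.closure (A ∪ {s}) := Subgroup.subset_closure (Or.inr rfl)
        have h3 := mul_mem h2 h1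
        rwa [mul_inv_cancel_left] at h3
  rw [hcl]
  have hrel : H.relIndex K = 2 := by
    rw [Subgroup.relIndex, Subgroup.index_eq_two_iff]
    refine ⟨⟨s, (hK s).2 (Or.inr (by rw [inv_mul_cancel]; exact H.one_mem))⟩, fun b => ?_⟩
    rw [Subgroup.mem_subgroupOf, Subgroup.mem_subgroupOf]
    have hb : (b : G) ∈ H ∨ s⁻¹ * (b : G) ∈ H := b.2
    show Xor ((b : G) * s ∈ H) ((b : G) ∈ H)
    rcases hb with hb | hb
    · exact Or.inr ⟨hb, fun h => hs (by
        have := H.mul_mem (H.inv_mem hb) h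
        rwa [inv_mul_cancel_left] at this)⟩
    · refine Or.inl ⟨?_, fun h => hs ?_⟩
      · have e : (b : G) * s = (s * s) * (s⁻¹ * (s⁻¹ * (b : G)) * s) := by group
        rw [e]
        exact H.mul_mem hss (hn' _ hb)
      · have := H.mul_mem h (H.inv_mem hb)
        have e : (b : G) * (s⁻¹ * (b : G))⁻¹ = s := by group
        rwa [e] at this
  have := Subgroup.card_mul_index (H.subgroupOf K)
  rw [← Subgroup.relIndex, hrel, Nat.card_congr (Subgroup.subgroupOfEquivOfLe hHK).toEquiv] at this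
  rw [← this, mul_comm]

/-- an element centralising the generators modulo `P` -/
theorem cent_mod {P : Subgroup G} {A : Set G} {z : G} (hA : ∀ a ∈ A, a ∈ Subgroup.normalizer (P : Set G))
    (hz : ∀ a ∈ A, a⁻¹ * (z⁻¹ * a * z) ∈ P) {g : G} (hg : g ∈ Subgroup.closure A) : g⁻¹ * (z⁻¹ * g * z) ∈ P := by
  have hle : Subgroup.closure A ≤ Subgroup.normalizer (P : Set G) := (Subgroup.closure_le _).2 hA
  refine (Subgroup.closure_induction (p := fun g _ => g⁻¹ * (z⁻¹ * g * z) ∈ P) (fun a ha => hz a ha) ?_ ?_ ?_ hg)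
  · have e : (1 : G)⁻¹ * (z⁻¹ * 1 * z) = 1 := by group
    rw [e]; exact P.one_mem
  · intro a b ha hb h1 h2
    have hb' := hle hb
    have e : (a * b)⁻¹ * (z⁻¹ * (a * b) * z) = (b⁻¹ * (a⁻¹ * (z⁻¹ * a * z)) * b) * (b⁻¹ * (z⁻¹ * b * z)) := by group
    rw [e]
    refine P.mul_mem ?_ h2
    have h3 := (Subgroup.mem_normalizer_iff.1 ((Subgroup.normalizer (P : Set G)).inv_mem hb') (a⁻¹ * (z⁻¹ * a * z))).1 h1
    rwa [inv_inv] at h3
  · intro a ha h1
    have e : a⁻¹⁻¹ * (z⁻¹ * a⁻¹ * z) = a * (a⁻¹ * (z⁻¹ * a * z))⁻¹ * a⁻¹ := by group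
    rw [e]
    exact (Subgroup.mem_normalizer_iff.1 (hle ha) _).1 (P.inv_mem h1)

/-- commutation up to powers of `t` -/
def Cm (t z s : G) (n : ℕ) : Prop := s * z = t ^ n * (z * s)

theorem Cm.mul {t z z' s : G} {n n' : ℕ} (h : Cm t z s n) (h' : Cm t z' s n') (ht : z * t = t * z) :
    Cm t (z * z') s (n + n') := by
  unfold Cm at *
  have hc : z * t ^ n' = t ^ n' * z := (Commute.pow_right (show Commute z t from ht) n').eq
  calc s * (z * z') = (s * z) * z' := by rw [mul_assoc]
    _ = t ^ n * (z * s) * z' := by rw [h]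
    _ = t ^ n * (z * (s * z')) := by simp only [mul_assoc]
    _ = t ^ n * (z * (t ^ n' * (z' * s))) := by rw [h']
    _ = t ^ n * (z * t ^ n' * (z' * s)) := by simp only [mul_assoc]
    _ = t ^ (n + n') * (z * z' * s) := by rw [hc, pow_add]; simp only [mul_assoc]

end

section

variable {G : Type} [Group G] {y : G} {e : Fin 8 → G} {t : G} {w : Fin 6 → G} {k : Fin 2 → G} {n : G}

theorem nf_mem (v : Fin 8 → ZMod 3) (b : ZMod 3) : nf y e v b ∈ PP y e := by
  have he : ∀ j, e j ∈ PP y e := fun j => Subgroup.subset_closure (Or.inr ⟨j, rfl⟩)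
  have hy : y ∈ PP y e := Subgroup.subset_closure (Or.inl rfl)
  unfold nf
  repeat' first
    | exact pow_mem (he _) _
    | exact pow_mem hy _
    | apply mul_mem

theorem t_ne (hNF : StNF) (h : TB y e t w k n) : t ≠ 1 := by
  intro ht
  have h1 := h.te 0
  rw [ht, inv_one, one_mul, mul_one] at h1
  have h2 : e 0 = nf y e (fun j => if j = 0 then 1 else 0) 0 := by
    unfold nf
    have : (1 : ZMod 3).val = 1 := rfl
    simp [this]
  rw [h2] at h1
  have h3 := ((hNF h).2.1 _ _ _ _ h1).1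
  have h4 := congrFun h3 0
  revert h4
  decide

theorem t_not_mem (hNF : StNF) (h : TB y e t w k n) : t ∉ PP y e := by
  intro ht
  have hc := (hNF h).2.2
  have hfin : Finite (PP y e) := Nat.finite_of_card_ne_zero (by rw [hc]; norm_num)
  have h1 : orderOf (⟨t, ht⟩ : PP y e) ∣ 3 ^ 9 := by
    rw [← hc]; exact orderOf_dvd_natCard _
  have h2 : orderOf (⟨t, ht⟩ : PP y e) ∣ 2 := by
    apply orderOf_dvd_of_pow_eq_one
    apply Subtype.ext
    show t ^ 2 = 1
    rw [pow_two]; exact h.t2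
  have h3 : orderOf (⟨t, ht⟩ : PP y e) ∣ 1 := by
    have := Nat.dvd_gcd h1 h2
    have e1 : Nat.gcd (3 ^ 9) 2 = 1 := by norm_num
    rwa [e1] at this
  have h4 : (⟨t, ht⟩ : PP y e) = 1 := orderOf_eq_one_iff.1 (Nat.dvd_one.1 h3)
  exact t_ne hNF h (congrArg Subtype.val h4)

/-- an element mapping the generators of `P` into `P` normalises `P` -/
theorem norm_of (hNF : StNF) (h : TB y e t w k n) {s : G} (hs : ∀ a ∈ ({y} ∪ Set.range e : Set G), s⁻¹ * a * s ∈ PP y e) :
    s ∈ Subgroup.normalizer (PP y e : Set G) := by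
  have hc := (hNF h).2.2
  have hfin : Finite (PP y e) := Nat.finite_of_card_ne_zero (by rw [hc]; norm_num)
  have hfin' : Finite ((PP y e : Subgroup G) : Set G) := hfin
  have h0 : s⁻¹ ∈ Subgroup.normalizer (PP y e : Set G) := by
    apply Subgroup.mem_normalizer_fintype
    intro p hp
    have h1 : PP y e ≤ (PP y e).comap (MulAut.conj s⁻¹).toMonoidHom := by
      refine (Subgroup.closure_le _).2 fun a ha => ?_
      show MulAut.conj s⁻¹ a ∈ PP y e
      rw [MulAut.conj_apply, inv_inv]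
      exact hs a ha
    exact h1 hp
  have := (Subgroup.normalizer (PP y e : Set G)).inv_mem h0
  rwa [inv_inv] at this

theorem t_norm (hNF : StNF) (h : TB y e t w k n) : t ∈ Subgroup.normalizer (PP y e : Set G) := by
  refine norm_of hNF h ?_
  rintro a (ha | ⟨j, rfl⟩)
  · rw [Set.mem_singleton_iff.1 ha, mul_assoc, ← h.ty, inv_mul_cancel_left]
    exact Subgroup.subset_closure (Or.inl rfl)
  · rw [h.te j]; exact nf_mem _ _

theorem w_norm (hNF : StNF) (h : TB y e t w k n) (c : Fin 6) : w c ∈ Subgroup.normalizer (PP y e : Set G) := by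
  refine norm_of hNF h ?_
  rintro a (ha | ⟨j, rfl⟩)
  · rw [Set.mem_singleton_iff.1 ha, mul_assoc, ← h.wy, inv_mul_cancel_left]
    exact Subgroup.subset_closure (Or.inl rfl)
  · rw [h.we c j]; exact nf_mem _ _

theorem cm_w (h : TB y e t w k n) (b a : Fin 6) : Cm t (w b) (w a) (bc a b).val := by
  unfold Cm
  rw [h.ww a b, mul_assoc]

/-- the generators up to step `i` -/
def gen (y : G) (e : Fin 8 → G) (t : G) (w : Fin 6 → G) (i : ℕ) : Set G :=
  {y} ∪ Set.range e ∪ {t} ∪ {g | ∃ j : Fin 6, j.1 < i ∧ w j = g}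

theorem t_pow_even (h : TB y e t w k n) {m : ℕ} (hm : m % 2 = 0) : t ^ m = 1 := by
  obtain ⟨c, rfl⟩ : ∃ c, m = 2 * c := ⟨m / 2, by omega⟩
  rw [pow_mul, pow_two, h.t2, one_pow]

theorem t_pow_odd (h : TB y e t w k n) {m : ℕ} (hm : m % 2 = 1) : t ^ m = t := by
  obtain ⟨c, rfl⟩ : ∃ c, m = 2 * c + 1 := ⟨m / 2, by omega⟩
  rw [pow_succ, t_pow_even h (by omega), one_mul]

theorem step (hNF : StNF) (h : TB y e t w k n) (i : Fin 6) (z : G) (f : Fin 6 → ℕ) (hzt : z * t = t * z)
    (hzN : z ∈ Subgroup.normalizer (PP y e : Set G)) (hz : ∀ j, Cm t z (w j) (f j)) (h0 : ∀ j, j < i → f j % 2 = 0)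
    (h1 : f i % 2 = 1) :
    Nat.card (Subgroup.closure (gen y e t w (i + 1))) = 2 * Nat.card (Subgroup.closure (gen y e t w i)) := by
  have hPle : PP y e ≤ Subgroup.closure (gen y e t w i) :=
    Subgroup.closure_mono fun a ha => Or.inl (Or.inl ha)
  have ht : t ∈ Subgroup.closure (gen y e t w i) := Subgroup.subset_closure (Or.inl (Or.inr rfl))
  have hgen : gen y e t w (i + 1) = gen y e t w i ∪ {w i} := by
    unfold gen
    ext g
    constructor
    · rintro (hg | ⟨j, hj, rfl⟩)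
      · exact Or.inl (Or.inl hg)
      · by_cases hji : j.1 < i.1
        · exact Or.inl (Or.inr ⟨j, hji, rfl⟩)
        · have : j = i := Fin.ext (by omega)
          rw [this]
          exact Or.inr rfl
    · rintro ((hg | ⟨j, hj, rfl⟩) | hg)
      · exact Or.inl hg
      · exact Or.inr ⟨j, by omega, rfl⟩
      · rw [Set.mem_singleton_iff.1 hg]
        exact Or.inr ⟨i, by omega, rfl⟩
  rw [hgen]
  refine double ?_ ?_ ?_
  · intro hmem
    have h2 := cent_mod (P := PP y e) (A := gen y e t w i) (z := z) ?_ ?_ hmem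
    · have e1 : z⁻¹ * w i * z = t * w i := by
        have h3 := hz i
        unfold Cm at h3
        rw [t_pow_odd h h1] at h3
        rw [mul_assoc, h3, ← mul_assoc, ← mul_assoc]
        have h4 : z⁻¹ * t = t * z⁻¹ := by
          rw [inv_mul_eq_iff_eq_mul, ← mul_assoc, hzt, mul_inv_cancel_right]
        rw [h4, mul_assoc t, inv_mul_cancel, mul_one]
      rw [e1, ← h.wt i, inv_mul_cancel_left] at h2
      exact t_not_mem hNF h h2
    · rintro a (((ha | ⟨j, rfl⟩) | ha) | ⟨j, hj, rfl⟩)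
      · rw [Set.mem_singleton_iff.1 ha]
        exact Subgroup.le_normalizer (Subgroup.subset_closure (Or.inl rfl))
      · exact Subgroup.le_normalizer (Subgroup.subset_closure (Or.inr ⟨j, rfl⟩))
      · rw [Set.mem_singleton_iff.1 ha]; exact t_norm hNF h
      · exact w_norm hNF h j
    · have hP : ∀ a ∈ PP y e, a⁻¹ * (z⁻¹ * a * z) ∈ PP y e := by
        intro a ha
        have h3 := (Subgroup.mem_normalizer_iff.1 ((Subgroup.normalizer (PP y e : Set G)).inv_mem hzN) a).1 ha
        rw [inv_inv] at h3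
        exact mul_mem (inv_mem ha) h3
      rintro a (((ha | ⟨j, rfl⟩) | ha) | ⟨j, hj, rfl⟩)
      · rw [Set.mem_singleton_iff.1 ha]
        exact hP _ (Subgroup.subset_closure (Or.inl rfl))
      · exact hP _ (Subgroup.subset_closure (Or.inr ⟨j, rfl⟩))
      · rw [Set.mem_singleton_iff.1 ha, mul_assoc, ← hzt, inv_mul_cancel_left, inv_mul_cancel]
        exact one_mem _
      · have h3 := hz j
        unfold Cm at h3
        rw [t_pow_even h (h0 j hj), one_mul] at h3
        rw [mul_assoc, h3, inv_mul_cancel_left, inv_mul_cancel]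
        exact one_mem _
  · rw [h.w2 i]
    exact pow_mem ht _
  · rintro a (((ha | ⟨j, rfl⟩) | ha) | ⟨j, hj, rfl⟩)
    · rw [Set.mem_singleton_iff.1 ha, mul_assoc, ← h.wy, inv_mul_cancel_left]
      exact hPle (Subgroup.subset_closure (Or.inl rfl))
    · rw [h.we i j]
      exact hPle (nf_mem _ _)
    · rw [Set.mem_singleton_iff.1 ha, mul_assoc, ← h.wt, inv_mul_cancel_left]
      exact ht
    · have hc : (w i)⁻¹ * t ^ (bc j i).val = t ^ (bc j i).val * (w i)⁻¹ :=
        (Commute.pow_right (Commute.inv_left (show Commute (w i) t from h.wt i)) _).eq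
      rw [mul_assoc, h.ww j i, mul_assoc, ← mul_assoc (w i)⁻¹, hc, mul_assoc, inv_mul_cancel_left]
      exact mul_mem (pow_mem ht _) (Subgroup.subset_closure (Or.inr ⟨j, hj, rfl⟩))

/-- **L3: the order of `O`** -/
theorem stO (hNF : StNF) : StO := by
  intro G _ y e t w k n h
  have hw0 := w_norm hNF h
  have s5 := step hNF h 5 (w 0 * (w 2 * (w 3 * w 4)))
    (fun j => (bc j 0).val + ((bc j 2).val + ((bc j 3).val + (bc j 4).val)))
    (by rw [mul_assoc, mul_assoc, mul_assoc, h.wt, ← mul_assoc (w 3), h.wt, mul_assoc, ← mul_assoc (w 2), h.wt, mul_assoc,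
      ← mul_assoc (w 0), h.wt, mul_assoc])
    (mul_mem (hw0 0) (mul_mem (hw0 2) (mul_mem (hw0 3) (hw0 4))))
    (fun j => (cm_w h 0 j).mul ((cm_w h 2 j).mul ((cm_w h 3 j).mul (cm_w h 4 j) (h.wt 3)) (h.wt 2)) (h.wt 0))
    (by decide) (by decide)
  have s4 := step hNF h 4 (w 5) (fun j => (bc j 5).val) (h.wt 5) (hw0 5) (cm_w h 5) (by decide) (by decide)
  have s3 := step hNF h 3 (w 2) (fun j => (bc j 2).val) (h.wt 2) (hw0 2) (cm_w h 2) (by decide) (by decide)
  have s2 := step hNF h 2 (w 4) (fun j => (bc j 4).val) (h.wt 4) (hw0 4) (cm_w h 4) (by decide) (by decide)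
  have s1 := step hNF h 1 (w 0) (fun j => (bc j 0).val) (h.wt 0) (hw0 0) (cm_w h 0) (by decide) (by decide)
  have s0 := step hNF h 0 (w 1) (fun j => (bc j 1).val) (h.wt 1) (hw0 1) (cm_w h 1) (by decide) (by decide)
  have st : Nat.card (Subgroup.closure (gen y e t w 0)) = 2 * Nat.card (PP y e) := by
    have hg : gen y e t w 0 = ({y} ∪ Set.range e) ∪ {t} := by
      unfold gen
      ext g
      constructor
      · rintro (hg | ⟨j, hj, rfl⟩)
        · exact hg
        · exact absurd hj (by omega)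
      · exact fun hg => Or.inl hg
    rw [hg]
    refine double (t_not_mem hNF h) ?_ ?_
    · rw [h.t2]; exact one_mem _
    · rintro a (ha | ⟨j, rfl⟩)
      · rw [Set.mem_singleton_iff.1 ha, mul_assoc, ← h.ty, inv_mul_cancel_left]
        exact Subgroup.subset_closure (Or.inl rfl)
      · rw [h.te j]; exact nf_mem _ _
  have hO : OO y e t w = Subgroup.closure (gen y e t w 6) := by
    unfold OO gen
    congr 1
    ext g
    constructor
    · rintro (hg | ⟨j, rfl⟩)
      · exact Or.inl hg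
      · exact Or.inr ⟨j, j.2, rfl⟩
    · rintro (hg | ⟨j, hj, rfl⟩)
      · exact Or.inl hg
      · exact Or.inr ⟨j, rfl⟩
  rw [hO]
  have e5 : ((5 : Fin 6) : ℕ) + 1 = 6 := rfl
  have e4 : ((4 : Fin 6) : ℕ) + 1 = 5 := rfl
  have e3 : ((3 : Fin 6) : ℕ) + 1 = 4 := rfl
  have e2 : ((2 : Fin 6) : ℕ) + 1 = 3 := rfl
  have e1 : ((1 : Fin 6) : ℕ) + 1 = 2 := rfl
  have e0 : ((0 : Fin 6) : ℕ) + 1 = 1 := rfl
  have f5 : ((5 : Fin 6) : ℕ) = 5 := rfl
  have f4 : ((4 : Fin 6) : ℕ) = 4 := rfl
  have f3 : ((3 : Fin 6) : ℕ) = 3 := rfl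
  have f2 : ((2 : Fin 6) : ℕ) = 2 := rfl
  have f1 : ((1 : Fin 6) : ℕ) = 1 := rfl
  have f0 : ((0 : Fin 6) : ℕ) = 0 := rfl
  rw [e5, f5] at s5
  rw [e4, f4] at s4
  rw [e3, f3] at s3
  rw [e2, f2] at s2
  rw [e1, f1] at s1
  rw [e0, f0] at s0
  rw [s5, s4, s3, s2, s1, s0, st, (hNF h).2.2]
  norm_num

end

end Cfsg.Agent.H264.U33.O
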