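import Cfsg.Agent.H264.U33.PairOf
import Cfsg.Agent.H863.U33.Dat

/-!
# S5525, part F: the pairs `(x, y)` of the triples, `x` conjugate to the centre of the 3-local frame (helper264)
-/

set_option autoImplicit false

namespace Cfsg.Agent.H264.U33

open Cfsg.Agent.H819.U33 Cfsg.Agent.H863.U33

/-- `K` centralises `y` -/
theorem KK_comm {G : Type} [Group G] {y : G} {e : Fin 8 → G} {t : G} {w : Fin 6 → G} {k : Fin 2 → G} {n : G}
    (hTB : TB y e t w k n) {h : G} (hh : h ∈ KK y e t w k) : h * y = y * h := by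
  have hle : KK y e t w k ≤ Subgroup.centralizer {y} := by
    refine (Subgroup.closure_le _).2 ?_
    intro s hs
    show s ∈ Subgroup.centralizer {y}
    rw [Subgroup.mem_centralizer_singleton_iff]
    rcases hs with (((hs | ⟨j, rfl⟩) | hs) | ⟨a, rfl⟩) | ⟨c, rfl⟩
    · rw [Set.mem_singleton_iff.1 hs]
    · exact hTB.ey j
    · rw [Set.mem_singleton_iff.1 hs]; exact hTB.ty
    · exact hTB.wy a
    · exact hTB.ky c
  exact Subgroup.mem_centralizer_singleton_iff.1 (hle hh)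

/-- **the pairs** -/
theorem three_pair (hOrb : StOrb) (hT : StT) {G : Type} [Group G] [Finite G] {y : G} {e : Fin 8 → G} {t : G}
    {w : Fin 6 → G} {k : Fin 2 → G} {n : G} (hTB : TB y e t w k n)
    (hcard : Nat.card (Subgroup.centralizer {y}) ≤ 65303470080) {u a x : G} (h : Trip u a x) (hx : IsConj x y) :
    ∃ c : G, c * x * c⁻¹ = y ∧ (c * a * c⁻¹ = e 0 ∨ c * a * c⁻¹ = nf y e vB 0) := by
  refine three_pair_of (y1 := y) (pA := e 0) (pB := nf y e vB 0) (P1 := PP y e) ?_ ?_ h hx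
  · intro u a h
    exact hT hTB hcard a (u⁻¹ * y⁻¹ * u⁻¹ ^ 3 * y⁻¹ * u⁻¹) (u * y * u⁻¹ * y⁻¹ * u) h.y3 h.q3 h.xy.symm h.qx h.yq h.xw
      h.yw h.qw
  · intro p hp hpy
    obtain ⟨c, hc, hc'⟩ := hOrb hTB p hp hpy
    exact ⟨c, KK_comm hTB hc, hc'⟩

end Cfsg.Agent.H264.U33
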