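import Cfsg.Agent.H264.U33.StO
import Cfsg.Agent.H264.U33.ThreePair
import Cfsg.Agent.H604.U33.StIm
import Cfsg.Agent.H649.U33.NF
import Cfsg.Agent.H966.U33.StOrb
import Cfsg.Agent.H888.U33.StT

/-!
# S5525, part F: all abstract boxes together (helper264)
-/

set_option autoImplicit false

namespace Cfsg.Agent.H264.U33.F

open Cfsg.Agent.H819.U33 Cfsg.Agent.H863.U33

theorem stNF : StNF := Cfsg.Agent.H649.U33.stNF

theorem stAct : StAct := Cfsg.Agent.H649.U33.stAct

theorem stOrb : StOrb := Cfsg.Agent.H966.U33.Orb.stOrb stNF stAct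

theorem stO : StO := Cfsg.Agent.H264.U33.O.stO stNF

theorem stIm : Cfsg.Agent.H757.U33.StIm := Cfsg.Agent.H604.U33.StIm.stIm stNF stO

theorem stC : StC := Cfsg.Agent.H757.U33.stC stNF stO stIm

theorem stT : StT := Cfsg.Agent.H888.U33.stT stNF stO stC

/-- (F) closed form of `hF` of the glue -/
theorem three_pair {G : Type} [Group G] [Finite G] {y : G} {e : Fin 8 → G} {t : G} {w : Fin 6 → G} {k : Fin 2 → G} {n : G}
    (hTB : TB y e t w k n) (hcard : Nat.card (Subgroup.centralizer {y}) ≤ 65303470080) {u a x : G} (h : Trip u a x)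
    (hx : IsConj x y) : ∃ c : G, c * x * c⁻¹ = y ∧ (c * a * c⁻¹ = e 0 ∨ c * a * c⁻¹ = nf y e vB 0) :=
  Cfsg.Agent.H264.U33.three_pair stOrb stT hTB hcard h hx

/-- (F) closed form of `hP` of the glue -/
theorem conj_mem {G : Type} [Group G] [Finite G] {y : G} {e : Fin 8 → G} {t : G} {w : Fin 6 → G} {k : Fin 2 → G} {n : G}
    (hTB : TB y e t w k n) (hcard : Nat.card (Subgroup.centralizer {y}) ≤ 65303470080) (c : G) (hc : c * y = y * c) :
    ∀ p ∈ PP y e, c * p * c⁻¹ ∈ PP y e := by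
  intro p hp
  have hc' : (c⁻¹)⁻¹ * y * c⁻¹ = y := by rw [inv_inv, hc, mul_inv_cancel_right]
  have := ((stC hTB hcard).2.2.1 c⁻¹ (Or.inl hc')).1 p hp
  rwa [inv_inv] at this

end Cfsg.Agent.H264.U33.F
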