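import Cfsg.Agent.H819.U33.Trip

/-!
# S5525: the pairs `(x, y)` of a triple, from the three-local facts (helper264)
-/

set_option autoImplicit false

namespace Cfsg.Agent.H264.U33

open Cfsg.Agent.H819.U33

variable {G : Type*} [Group G]

/-- `y` is not a power of `x` -/
theorem not_mem {u y x : G} (h : Trip u y x) : y ∉ Subgroup.zpowers x := by
  rintro ⟨n, hn⟩
  have hn' : x ^ n = y := hn
  have hq := h.qx
  have hy := h.yq
  set q := u⁻¹ * x⁻¹ * u⁻¹ ^ 3 * x⁻¹ * u⁻¹ with hqd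
  have hc : Commute q y := by
    rw [← hn']
    exact Commute.zpow_right (show Commute q x from hq) n
  have h1 : q⁻¹ * y * q = y := by
    rw [mul_assoc, ← hc.eq, inv_mul_cancel_left]
  rw [h1] at hy
  exact h.x1 (by
    have : y * x = y * 1 := by rw [mul_one]; exact hy.symm
    exact mul_left_cancel this)

/-- the pairs `(x, y)` with `x` conjugate to `y1` -/
theorem three_pair_of {y1 pA pB : G} {P1 : Subgroup G} (hT : ∀ {u y : G}, Trip u y y1 → y ∈ P1)
    (hO : ∀ p ∈ P1, p ∉ Subgroup.zpowers y1 → ∃ k, k * y1 = y1 * k ∧ (k * p * k⁻¹ = pA ∨ k * p * k⁻¹ = pB))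
    {u y x : G} (h : Trip u y x) (hx : IsConj x y1) :
    ∃ k, k * x * k⁻¹ = y1 ∧ (k * y * k⁻¹ = pA ∨ k * y * k⁻¹ = pB) := by
  obtain ⟨c, hc⟩ := isConj_iff.1 hx
  have h' : Trip (c * u * c⁻¹) (c * y * c⁻¹) y1 := by
    have := h.conj c⁻¹
    rw [inv_inv] at this
    rwa [hc] at this
  obtain ⟨k, hk, hk'⟩ := hO _ (hT h') (not_mem h')
  refine ⟨k * c, ?_, ?_⟩
  · rw [mul_inv_rev]
    calc k * c * x * (c⁻¹ * k⁻¹) = k * (c * x * c⁻¹) * k⁻¹ := by group
      _ = y1 := by rw [hc, hk, mul_inv_cancel_right]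
  · rw [mul_inv_rev]
    have e : k * c * y * (c⁻¹ * k⁻¹) = k * (c * y * c⁻¹) * k⁻¹ := by group
    rw [e]
    exact hk'

end Cfsg.Agent.H264.U33
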